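import Cfsg.Agent.Lib.Spor.ThA.C0
import Cfsg.Agent.Lib.Spor.ThA.Defs

set_option autoImplicit false
set_option maxRecDepth 100000
set_option Elab.async false
set_option exponentiation.threshold 100000

namespace Cfsg.Agent.Spor.ThA
open Cfsg.Agent.PG

theorem card9 : Nat.card (K A 75) = 1 := card_K_last A (le_of_eq hlen)

theorem cl8 : ∀ c ∈ cl8_l, Holds A c :=
  (chk_spec hA cl8_0)

theorem stab8 : StabIs A 74 287 75 := stabIs_plain hA ok8 cl8

theorem card8 : Nat.card (K A 74) = 2 := card_K_step hA stab8 orb8 card9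

theorem cl7 : ∀ c ∈ cl7_l, Holds A c :=
  (chk_spec hA cl7_0)

theorem stab7 : StabIs A 73 285 74 := stabIs_plain hA ok7 cl7

theorem card7 : Nat.card (K A 73) = 4 := card_K_step hA stab7 orb7 card8

theorem cl6 : ∀ c ∈ cl6_l, Holds A c :=
  (chk_spec hA cl6_0)

theorem stab6 : StabIs A 72 283 73 := stabIs_plain hA ok6 cl6

theorem card6 : Nat.card (K A 72) = 8 := card_K_step hA stab6 orb6 card7

theorem cl5 : ∀ c ∈ cl5_l, Holds A c :=
  (chk_spec hA cl5_0)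

theorem stab5 : StabIs A 71 280 72 := stabIs_plain hA ok5 cl5

theorem card5 : Nat.card (K A 71) = 16 := card_K_step hA stab5 orb5 card6

theorem cl4 : ∀ c ∈ cl4_l, Holds A c :=
  (chk_spec hA cl4_0)

theorem stab4 : StabIs A 70 279 71 := stabIs_plain hA ok4 cl4

theorem card4 : Nat.card (K A 70) = 32 := card_K_step hA stab4 orb4 card5

theorem cl3 : ∀ c ∈ cl3_l, Holds A c :=
  (chk_spec hA cl3_0)

theorem stab3 : StabIs A 68 21 70 := stabIs_plain hA ok3 cl3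

theorem card3 : Nat.card (K A 68) = 128 := card_K_step hA stab3 orb3 card4

theorem cl2 : ∀ c ∈ cl2_l, Holds A c :=
  (forall_take_drop 51 (chk_spec hA cl2_0)
  (chk_spec hA cl2_1))

theorem stab2 : StabIs A 67 83 68 := stabIs_dc hA stab3 ok2 cl2

theorem card2 : Nat.card (K A 67) = 5376 := card_K_step hA stab2 orb2 card3

theorem cl1 : ∀ c ∈ cl1_l, Holds A c :=
  (forall_take_drop 40 (chk_spec hA cl1_0)
  (forall_take_drop 24 (chk_spec hA cl1_1)
  (forall_take_drop 25 (chk_spec hA cl1_2)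
  (chk_spec hA cl1_3))))

theorem stab1 : StabIs A 66 2 67 := stabIs_dc hA stab2 ok1 cl1

theorem card1 : Nat.card (K A 66) = 1290240 := card_K_step hA stab1 orb1 card2

theorem cl0 : ∀ c ∈ cl0_l, Holds A c :=
  (chk_spec hA cl0_0)

theorem stab0 : StabIs A 65 0 66 := stabIs_dc hA stab1 ok0 cl0

theorem card0 : Nat.card (K A 65) = 319979520 := card_K_step hA stab0 orb0 card1

theorem fixTriv0 {B : Set ℕ} (h0 : 0 ∈ B) (h1 : 2 ∈ B) (h2 : 83 ∈ B) (h3 : 21 ∈ B) (h4 : 279 ∈ B) (h5 : 280 ∈ B) (h6 : 283 ∈ B) (h7 : 285 ∈ B) (h8 : 287 ∈ B) : FixTriv (K A 65) B :=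
  fixTriv_step stab0 h0 <| fixTriv_step stab1 h1 <| fixTriv_step stab2 h2 <| fixTriv_step stab3 h3 <| fixTriv_step stab4 h4 <| fixTriv_step stab5 h5 <| fixTriv_step stab6 h6 <| fixTriv_step stab7 h7 <| fixTriv_step stab8 h8 <| fixTriv_last A (le_of_eq hlen) B

theorem fixTriv1 {B : Set ℕ} (h1 : 2 ∈ B) (h2 : 83 ∈ B) (h3 : 21 ∈ B) (h4 : 279 ∈ B) (h5 : 280 ∈ B) (h6 : 283 ∈ B) (h7 : 285 ∈ B) (h8 : 287 ∈ B) : FixTriv (K A 66) B :=
  fixTriv_step stab1 h1 <| fixTriv_step stab2 h2 <| fixTriv_step stab3 h3 <| fixTriv_step stab4 h4 <| fixTriv_step stab5 h5 <| fixTriv_step stab6 h6 <| fixTriv_step stab7 h7 <| fixTriv_step stab8 h8 <| fixTriv_last A (le_of_eq hlen) B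

theorem fixTriv2 {B : Set ℕ} (h2 : 83 ∈ B) (h3 : 21 ∈ B) (h4 : 279 ∈ B) (h5 : 280 ∈ B) (h6 : 283 ∈ B) (h7 : 285 ∈ B) (h8 : 287 ∈ B) : FixTriv (K A 67) B :=
  fixTriv_step stab2 h2 <| fixTriv_step stab3 h3 <| fixTriv_step stab4 h4 <| fixTriv_step stab5 h5 <| fixTriv_step stab6 h6 <| fixTriv_step stab7 h7 <| fixTriv_step stab8 h8 <| fixTriv_last A (le_of_eq hlen) B

theorem fixTriv3 {B : Set ℕ} (h3 : 21 ∈ B) (h4 : 279 ∈ B) (h5 : 280 ∈ B) (h6 : 283 ∈ B) (h7 : 285 ∈ B) (h8 : 287 ∈ B) : FixTriv (K A 68) B :=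
  fixTriv_step stab3 h3 <| fixTriv_step stab4 h4 <| fixTriv_step stab5 h5 <| fixTriv_step stab6 h6 <| fixTriv_step stab7 h7 <| fixTriv_step stab8 h8 <| fixTriv_last A (le_of_eq hlen) B

theorem fixTriv4 {B : Set ℕ} (h4 : 279 ∈ B) (h5 : 280 ∈ B) (h6 : 283 ∈ B) (h7 : 285 ∈ B) (h8 : 287 ∈ B) : FixTriv (K A 70) B :=
  fixTriv_step stab4 h4 <| fixTriv_step stab5 h5 <| fixTriv_step stab6 h6 <| fixTriv_step stab7 h7 <| fixTriv_step stab8 h8 <| fixTriv_last A (le_of_eq hlen) B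

theorem fixTriv5 {B : Set ℕ} (h5 : 280 ∈ B) (h6 : 283 ∈ B) (h7 : 285 ∈ B) (h8 : 287 ∈ B) : FixTriv (K A 71) B :=
  fixTriv_step stab5 h5 <| fixTriv_step stab6 h6 <| fixTriv_step stab7 h7 <| fixTriv_step stab8 h8 <| fixTriv_last A (le_of_eq hlen) B

theorem fixTriv6 {B : Set ℕ} (h6 : 283 ∈ B) (h7 : 285 ∈ B) (h8 : 287 ∈ B) : FixTriv (K A 72) B :=
  fixTriv_step stab6 h6 <| fixTriv_step stab7 h7 <| fixTriv_step stab8 h8 <| fixTriv_last A (le_of_eq hlen) B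

theorem fixTriv7 {B : Set ℕ} (h7 : 285 ∈ B) (h8 : 287 ∈ B) : FixTriv (K A 73) B :=
  fixTriv_step stab7 h7 <| fixTriv_step stab8 h8 <| fixTriv_last A (le_of_eq hlen) B

theorem fixTriv8 {B : Set ℕ} (h8 : 287 ∈ B) : FixTriv (K A 74) B :=
  fixTriv_step stab8 h8 <| fixTriv_last A (le_of_eq hlen) B

theorem zclH : ∀ c ∈ zclH_l, Holds A c :=
  (chk_spec hA zclH_0)

theorem nclH (M : Subgroup (Equiv.Perm ℕ)) (hM : ∀ σ ∈ K A 65, ∀ n ∈ M, σ * n * σ⁻¹ ∈ M) (hy : pp A [0x030d070d0b170b1d0706] ∈ M) : K A 65 ≤ M :=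
  have hz := z_mem hM hy (zc := zcH) (by decide +kernel) zclH
  ncl_step hA stab0 nclokH_0 (by decide) hM (sub_z hz (by decide +kernel)) <|
  ncl_step hA stab1 nclokH_1 (by decide) hM (sub_z hz (by decide +kernel)) <|
  ncl_step hA stab2 nclokH_2 (by decide) hM (sub_z hz (by decide +kernel)) <|
  ncl_step hA stab3 nclokH_3 (by decide) hM (sub_z hz (by decide +kernel)) <|
  ncl_step hA stab4 nclokH_4 (by decide) hM (sub_z hz (by decide +kernel)) <|
  ncl_step hA stab5 nclokH_5 (by decide) hM (sub_z hz (by decide +kernel)) <|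
  ncl_step hA stab6 nclokH_6 (by decide) hM (sub_z hz (by decide +kernel)) <|
  ncl_step hA stab7 nclokH_7 (by decide) hM (sub_z hz (by decide +kernel)) <|
  ncl_step hA stab8 nclokH_8 (by decide) hM (sub_z hz (by decide +kernel)) <|
  K_last_le A (le_of_eq hlen) M

theorem ccmz : ∀ c ∈ ccmz_l, Holds A c :=
  (chk_spec hA ccmz_0)

theorem centz : CentOK A 65 czz 248 4 cgz :=
  centOK_of hA (by decide +kernel) coz (m := 10321920) (card0.trans (by norm_num)) (by decide +kernel) clbz (by decide +kernel) ccmz csubz cncz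


end Cfsg.Agent.Spor.ThA
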