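import Cfsg.Agent.Lib.Spor.ThA.Defs

set_option autoImplicit false
set_option maxRecDepth 100000
set_option Elab.async false
set_option exponentiation.threshold 100000

namespace Cfsg.Agent.Spor.ThA
open Cfsg.Agent.PG

theorem cl8_0 : chk A 13 (cl8_l) = true := by decide +kernel

theorem ok8 : plainOK A 74 75 287 tr8 ce8 = true := by decide +kernel

theorem orb8 : orbCardB A 10 74 287 2 2 = true := by decide +kernel

theorem cl7_0 : chk A 13 (cl7_l) = true := by decide +kernel

theorem ok7 : plainOK A 73 74 285 tr7 ce7 = true := by decide +kernel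

theorem orb7 : orbCardB A 10 73 285 2 2 = true := by decide +kernel

theorem cl6_0 : chk A 13 (cl6_l) = true := by decide +kernel

theorem ok6 : plainOK A 72 73 283 tr6 ce6 = true := by decide +kernel

theorem orb6 : orbCardB A 10 72 283 2 2 = true := by decide +kernel

theorem cl5_0 : chk A 13 (cl5_l) = true := by decide +kernel

theorem ok5 : plainOK A 71 72 280 tr5 ce5 = true := by decide +kernel

theorem orb5 : orbCardB A 10 71 280 2 2 = true := by decide +kernel

theorem cl4_0 : chk A 13 (cl4_l) = true := by decide +kernel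

theorem ok4 : plainOK A 70 71 279 tr4 ce4 = true := by decide +kernel

theorem orb4 : orbCardB A 10 70 279 2 2 = true := by decide +kernel

theorem cl3_0 : chk A 13 (cl3_l) = true := by decide +kernel

theorem ok3 : plainOK A 68 70 21 tr3 ce3 = true := by decide +kernel

theorem orb3 : orbCardB A 10 68 21 2 4 = true := by decide +kernel

theorem cl2_0 : chk A 13 ((cl2_l).take 51) = true := by decide +kernel

theorem cl2_1 : chk A 13 ((cl2_l).drop 51) = true := by decide +kernel

theorem ok2 : dcOK A 67 70 83 21 2 cj2 reps2 = true := by decide +kernel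

theorem orb2 : orbCardB A 10 67 83 5 42 = true := by decide +kernel

theorem cl1_0 : chk A 13 ((cl1_l).take 40) = true := by decide +kernel

theorem cl1_1 : chk A 13 (((cl1_l).drop 40).take 24) = true := by decide +kernel

theorem cl1_2 : chk A 13 ((((cl1_l).drop 40).drop 24).take 25) = true := by decide +kernel

theorem cl1_3 : chk A 13 ((((cl1_l).drop 40).drop 24).drop 25) = true := by decide +kernel

theorem ok1 : dcOK A 66 68 2 83 5 cj1 reps1 = true := by decide +kernel

theorem orb1 : orbCardB A 10 66 2 5 240 = true := by decide +kernel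

theorem cl0_0 : chk A 13 (cl0_l) = true := by decide +kernel

theorem ok0 : dcOK A 65 67 0 2 5 cj0 reps0 = true := by decide +kernel

theorem orb0 : orbCardB A 10 65 0 4 248 = true := by decide +kernel

theorem nclokH_8 : nclOK A 74 75 287 2 [[0x0328]] [(1, 0)] = true := by decide +kernel

theorem nclokH_7 : nclOK A 73 74 285 2 [[0x0324]] [(1, 0), (1, 1)] = true := by decide +kernel

theorem nclokH_6 : nclOK A 72 73 283 2 [[0x0320]] [(1, 0), (1, 1), (1, 2)] = true := by decide +kernel

theorem nclokH_5 : nclOK A 71 72 280 2 [[0x031c]] [(1, 0), (1, 1), (1, 2), (1, 3)] = true := by decide +kernel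

theorem nclokH_4 : nclOK A 70 71 279 2 [[0x0318]] [(1, 0), (1, 1), (1, 2), (1, 3), (1, 4)] = true := by decide +kernel

theorem nclokH_3 : nclOK A 68 70 21 2 [[0x0310], [0x0314]] [(1, 0), (1, 1), (1, 2), (1, 3), (1, 4), (1, 5), (1, 6)] = true := by decide +kernel

theorem nclokH_2 : nclOK A 67 68 83 4 [] [(1, 0), (1, 1), (1, 2), (1, 3), (1, 4), (1, 5), (1, 6), (0x18788, 0), (0x1868886, 1)] = true := by decide +kernel

theorem nclokH_1 : nclOK A 66 67 2 5 [] [(1, 0), (1, 1), (1, 2), (1, 3), (1, 4), (1, 5), (1, 6), (1, 7), (0x1848486, 0)] = true := by decide +kernel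

theorem nclokH_0 : nclOK A 65 66 0 5 [] [(1, 0), (1, 1), (1, 2), (1, 3), (1, 4), (1, 5), (1, 6), (1, 7), (1, 8), (0x1828483, 1)] = true := by decide +kernel

theorem zclH_0 : chk A 13 (zclH_l) = true := by decide +kernel

theorem ccmz_0 : chk A 13 (ccmz_l) = true := by decide +kernel

theorem coz : orbCardB A 10 65 248 4 31 = true := by decide +kernel

theorem clbz : lbQ A 10 cgz clvz [248] = true := by decide +kernel

theorem csubz : subOK A 65 248 4 4 cgz (cgsz.map Prod.fst) = true := by decide +kernel

theorem cncz : allL cgsz (ncB A czz) = true := by decide +kernel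

theorem cfix : allL (List.range 13) (fixPl A 13 czz (korb A 65 248 4)) = true := by decide +kernel


end Cfsg.Agent.Spor.ThA
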